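import Mathlib

set_option autoImplicit false

/-!
# No `2`-transitive action: the abstract counting argument (helper3, for S2197)

A finite group `G` of order `2¹¹·3³·5²·13` containing
* a subgroup `P` of order `27` all of whose non-identity elements are conjugate to a fixed
  element `x3` or its inverse,
* a subgroup `E` of order `25` all of whose non-identity elements are conjugate to generators of
  the cyclic group of a fixed element `x5`,
* an element `g` of order `13` normalised by a conjugate `y` of `x3`,
has no faithful `2`-transitive action on a finite set with at least three points.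
-/

namespace Cfsg.Agent.Lib.H3.Tits2T

open MulAction

section Fix

variable {G : Type*} [Group G] (Ω : Type*) [MulAction G Ω]

/-- the number of fixed points of an element -/
noncomputable def fx (x : G) : ℕ := Nat.card (fixedBy Ω x)

theorem fx_conj (t x : G) : fx Ω (t * x * t⁻¹) = fx Ω x := by
  unfold fx
  symm
  refine Nat.card_congr (Equiv.subtypeEquiv (MulAction.toPerm t) ?_)
  intro ω
  simp only [mem_fixedBy, MulAction.toPerm_apply, mul_smul, inv_smul_smul]
  constructor
  · intro h; rw [h]
  · intro h; exact smul_left_cancel t h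

theorem fx_inv (x : G) : fx Ω x⁻¹ = fx Ω x := by
  unfold fx
  rw [fixedBy_inv]

theorem fx_of_pow {x : G} {k m : ℕ} (h : (x ^ k) ^ m = x) : fx Ω (x ^ k) = fx Ω x := by
  unfold fx
  have h1 : fixedBy Ω x ⊆ fixedBy Ω (x ^ k) := by
    have := fixedBy_subset_fixedBy_zpow Ω x (k : ℤ)
    simpa using this
  have h2 : fixedBy Ω (x ^ k) ⊆ fixedBy Ω x := by
    have := fixedBy_subset_fixedBy_zpow Ω (x ^ k) (m : ℤ)
    rw [zpow_natCast, h] at this
    exact this
  rw [Set.Subset.antisymm h1 h2]

theorem fx_le [Finite Ω] (x : G) : fx Ω x ≤ Nat.card Ω :=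
  Nat.card_le_card_of_injective _ Subtype.val_injective

theorem eq_one_of_fx_eq [Finite Ω] [FaithfulSMul G Ω] (x : G) (h : fx Ω x = Nat.card Ω) :
    x = 1 := by
  classical
  haveI := Fintype.ofFinite Ω
  apply FaithfulSMul.eq_of_smul_eq_smul (α := Ω)
  intro ω
  rw [one_smul]
  by_contra hω
  have hlt : Nat.card {ω : Ω // x • ω = ω} < Nat.card Ω := by
    rw [Nat.card_eq_fintype_card, Nat.card_eq_fintype_card]
    exact Fintype.card_subtype_lt hω
  have h' : fx Ω x = Nat.card {ω : Ω // x • ω = ω} := rfl
  omega

end Fix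

section Burnside

variable {G : Type*} [Group G] [Finite G] (Ω : Type*) [MulAction G Ω] [Finite Ω]

theorem burnside_uniform (H : Subgroup G) (f : ℕ) (hf : ∀ x ∈ H, x ≠ 1 → fx Ω x = f) :
    Nat.card Ω + (Nat.card H - 1) * f = Nat.card (orbitRel.Quotient H Ω) * Nat.card H := by
  classical
  haveI := Fintype.ofFinite Ω
  haveI := Fintype.ofFinite H
  haveI := Fintype.ofFinite (orbitRel.Quotient H Ω)
  have hB := sum_card_fixedBy_eq_card_orbits_mul_card_group H Ω
  rw [Nat.card_eq_fintype_card, Nat.card_eq_fintype_card, Nat.card_eq_fintype_card, ← hB]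
  rw [← Finset.add_sum_erase Finset.univ _ (Finset.mem_univ (1 : H))]
  congr 1
  · have : fixedBy Ω (1 : H) = Set.univ := by
      ext ω; simp [mem_fixedBy]
    rw [Fintype.card_congr (Equiv.setCongr this)]
    simp
  · rw [Finset.sum_congr rfl (g := fun _ => f)]
    · rw [Finset.sum_const, Finset.card_erase_of_mem (Finset.mem_univ _), Finset.card_univ,
        smul_eq_mul]
    · intro h hh
      have hne : h ≠ 1 := Finset.ne_of_mem_erase hh
      have hne' : (h : G) ≠ 1 := fun e => hne (Subtype.ext e)
      rw [← hf h h.2 hne']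
      unfold fx
      rw [Nat.card_eq_fintype_card]
      rfl

theorem five_mul_orbits_le (H : Subgroup G) (hH : Nat.card H = 25)
    (hno : ∀ ω : Ω, ∃ h ∈ H, h • ω ≠ ω) :
    5 * Nat.card (orbitRel.Quotient H Ω) ≤ Nat.card Ω := by
  classical
  haveI := Fintype.ofFinite Ω
  haveI := Fintype.ofFinite H
  haveI := Fintype.ofFinite (orbitRel.Quotient H Ω)
  have h1 : Fintype.card Ω = ∑ o : orbitRel.Quotient H Ω, Fintype.card o.orbit := by
    rw [Fintype.card_congr (selfEquivSigmaOrbits' H Ω), Fintype.card_sigma]
  rw [Nat.card_eq_fintype_card, Nat.card_eq_fintype_card, h1]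
  have h2 : ∀ o : orbitRel.Quotient H Ω, 5 ≤ Fintype.card o.orbit := by
    intro o
    induction o using Quotient.inductionOn' with
    | h ω =>
      have e : orbitRel.Quotient.orbit (Quotient.mk'' ω : orbitRel.Quotient H Ω) = orbit H ω :=
        orbitRel.Quotient.orbit_mk ω
      rw [Fintype.card_congr (Equiv.setCongr e)]
      have h3 := card_orbit_mul_card_stabilizer_eq_card_group H ω
      rw [← Nat.card_eq_fintype_card (α := H), hH] at h3
      have hd : Fintype.card (orbit H ω) ∣ 25 := ⟨_, h3.symm⟩
      have hne : Fintype.card (orbit H ω) ≠ 1 := by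
        intro h1'
        obtain ⟨h, hh, hω⟩ := hno ω
        apply hω
        have hsub : Subsingleton (orbit H ω) := by
          rw [← Fintype.card_le_one_iff_subsingleton, h1']
        have := Subsingleton.elim (⟨(⟨h, hh⟩ : H) • ω, mem_orbit ω _⟩ : orbit H ω)
          ⟨ω, mem_orbit_self ω⟩
        exact congrArg Subtype.val this
      have hpos : 0 < Fintype.card (orbit H ω) := Nat.pos_of_dvd_of_pos hd (by norm_num)
      have hle : Fintype.card (orbit H ω) ≤ 25 := Nat.le_of_dvd (by norm_num) hd
      interval_cases (Fintype.card (orbit H ω)) <;> omega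
  calc 5 * Fintype.card (orbitRel.Quotient H Ω)
      = ∑ _o : orbitRel.Quotient H Ω, 5 := by
        rw [Finset.sum_const, Finset.card_univ, smul_eq_mul, mul_comm]
    _ ≤ ∑ o : orbitRel.Quotient H Ω, Fintype.card o.orbit := Finset.sum_le_sum fun o _ => h2 o

end Burnside

end Cfsg.Agent.Lib.H3.Tits2T
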