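import Mathlib
import Cfsg.Agent.Lib.H3.Tits2T.Abs

set_option autoImplicit false

/-!
# No `2`-transitive action: the main abstract theorem (helper3, for S2197)
-/

namespace Cfsg.Agent.Lib.H3.Tits2T

open MulAction

/-- boolean form of the degree restriction -/
def degOK (n : ℕ) : Bool :=
  !(decide (n * (n - 1) ∣ 17971200) && decide (3 ≤ n)) ||
    (n == 3 || n == 4 || n == 5 || n == 6 || n == 9 || n == 10 || n == 13 || n == 16 ||
      n == 25 || n == 26 || n == 27 || n == 40 || n == 65)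

theorem degree_list_aux : (List.range 4241).all degOK = true := by decide +kernel

theorem degree_list (n : ℕ) (hn : n < 4241) (h : n * (n - 1) ∣ 17971200) (h3 : 3 ≤ n) :
    n = 3 ∨ n = 4 ∨ n = 5 ∨ n = 6 ∨ n = 9 ∨ n = 10 ∨ n = 13 ∨ n = 16 ∨ n = 25 ∨ n = 26 ∨
      n = 27 ∨ n = 40 ∨ n = 65 := by
  have := List.all_eq_true.mp degree_list_aux n (List.mem_range.mpr hn)
  unfold degOK at this
  simp only [Bool.or_eq_true, Bool.not_eq_true', Bool.and_eq_false_iff, decide_eq_false_iff_not,
    beq_iff_eq] at this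
  rcases this with (h' | h') | h'
  · exact absurd h h'
  · exact absurd h3 h'
  · tauto

theorem degree_cases (n : ℕ) (h : n * (n - 1) ∣ 17971200) (h3 : 3 ≤ n) :
    n = 3 ∨ n = 4 ∨ n = 5 ∨ n = 6 ∨ n = 9 ∨ n = 10 ∨ n = 13 ∨ n = 16 ∨ n = 25 ∨ n = 26 ∨
      n = 27 ∨ n = 40 ∨ n = 65 := by
  apply degree_list n _ h h3
  by_contra hn
  rw [not_lt] at hn
  have h1 : 4241 ≤ n := by omega
  have h2 : n * (n - 1) ≤ 17971200 := Nat.le_of_dvd (by norm_num) h
  have h3 : 4241 * 4240 ≤ n * (n - 1) := Nat.mul_le_mul h1 (by omega)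
  omega

section Trans

variable {G : Type*} [Group G] [Finite G] {Ω : Type*} [Fintype Ω] [MulAction G Ω]

theorem card_stab_pair (h2 : IsMultiplyPretransitive G Ω 2) (e : Fin 2 ↪ Ω) :
    Nat.card (stabilizer G e) * (Fintype.card Ω * (Fintype.card Ω - 1)) = Nat.card G := by
  have h1 := index_stabilizer_of_transitive G e
  have h3 := Subgroup.card_mul_index (stabilizer G e)
  have h4 : Nat.card (Fin 2 ↪ Ω) = Fintype.card Ω * (Fintype.card Ω - 1) := by
    rw [Nat.card_eq_fintype_card, Fintype.card_embedding_eq, Fintype.card_fin,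
      show (2 : ℕ) = 1 + 1 from rfl, Nat.descFactorial_succ, Nat.descFactorial_one, mul_comm]
  rw [h1, h4] at h3
  exact h3

theorem card_stab_point (h2 : IsMultiplyPretransitive G Ω 2) (ω : Ω) :
    Nat.card (stabilizer G ω) * Fintype.card Ω = Nat.card G := by
  haveI : IsPretransitive G Ω := isPretransitive_of_is_two_pretransitive
  have h1 := index_stabilizer_of_transitive G ω
  have h3 := Subgroup.card_mul_index (stabilizer G ω)
  have h4 : Nat.card Ω = Fintype.card Ω := Nat.card_eq_fintype_card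
  rw [h1, h4] at h3
  exact h3

end Trans

theorem no_two_trans {G : Type*} [Group G] [Finite G] (hcard : Nat.card G = 17971200)
    (P : Subgroup G) (hP : Nat.card P = 27) (x3 : G) (hx3 : x3 ≠ 1)
    (hP3 : ∀ x ∈ P, x ≠ 1 → ∃ t : G, t * x * t⁻¹ = x3 ∨ t * x * t⁻¹ = x3⁻¹)
    (E : Subgroup G) (hE : Nat.card E = 25) (x5 : G)
    (hE5 : ∀ x ∈ E, x ≠ 1 → ∃ (t : G) (k m : ℕ), t * x * t⁻¹ = x5 ^ k ∧ (x5 ^ k) ^ m = x5)
    (g y : G) (hg : orderOf g = 13)
    (hy : ∃ t : G, t * y * t⁻¹ = x3 ∨ t * y * t⁻¹ = x3⁻¹)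
    (hyg : ∃ j m : ℕ, y * g * y⁻¹ = g ^ j ∧ (g ^ j) ^ m = g)
    {Ω : Type*} [Fintype Ω] [MulAction G Ω] [FaithfulSMul G Ω] (hΩ : 3 ≤ Fintype.card Ω) :
    ¬ IsMultiplyPretransitive G Ω 2 := by
  intro h2
  classical
  set n := Fintype.card Ω with hn
  have hnc : Nat.card Ω = n := Nat.card_eq_fintype_card
  -- the degree
  have hdiv : n * (n - 1) ∣ 17971200 := by
    have e : Fin 2 ↪ Ω := by
      have h2' : Fintype.card (Fin 2) ≤ Fintype.card Ω := by rw [Fintype.card_fin]; omega
      exact (Function.Embedding.nonempty_of_card_le h2').some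
    have := card_stab_pair h2 e
    rw [hcard] at this
    exact ⟨_, by rw [← this, mul_comm]⟩
  have hcases := degree_cases n hdiv hΩ
  -- the 3-elements
  have conj3 : ∀ z : G, (∃ t : G, t * z * t⁻¹ = x3 ∨ t * z * t⁻¹ = x3⁻¹) → fx Ω z = fx Ω x3 := by
    rintro z ⟨t, h | h⟩
    · rw [← fx_conj Ω t z, h]
    · rw [← fx_conj Ω t z, h, fx_inv]
  set f := fx Ω x3 with hf
  have hfP : ∀ x ∈ P, x ≠ 1 → fx Ω x = f := fun x hx hx1 => conj3 x (hP3 x hx hx1)
  have hB3 := burnside_uniform Ω P f hfP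
  rw [hP, hnc] at hB3
  have hfle : f ≤ n := by rw [← hnc]; exact fx_le Ω x3
  have hfne : f ≠ n := by
    intro h
    exact hx3 (eq_one_of_fx_eq Ω x3 (by rw [hnc]; exact h))
  -- the 5-elements
  set f5 := fx Ω x5 with hf5
  have hfE : ∀ x ∈ E, x ≠ 1 → fx Ω x = f5 := by
    intro x hx hx1
    obtain ⟨t, k, m, h1, h2'⟩ := hE5 x hx hx1
    rw [← fx_conj Ω t x, h1, fx_of_pow Ω h2']
  have hB5 := burnside_uniform Ω E f5 hfE
  rw [hE, hnc] at hB5
  have hE_orb : ¬ (25 ∣ 17971200 / n) → 5 * Nat.card (orbitRel.Quotient E Ω) ≤ n := by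
    intro h25
    rw [← hnc]
    apply five_mul_orbits_le Ω E hE
    intro ω
    by_contra hcon
    have hle : E ≤ stabilizer G ω := by
      intro x hx
      rw [mem_stabilizer_iff]
      by_contra hx'
      exact hcon ⟨x, hx, hx'⟩
    have h1 := card_stab_point h2 ω
    rw [hcard] at h1
    have h3 : Nat.card E ∣ Nat.card (stabilizer G ω) := Subgroup.card_dvd_of_le hle
    rw [hE] at h3
    apply h25
    have hnpos : 0 < n := by omega
    rw [← h1, Nat.mul_div_cancel _ hnpos]
    exact h3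
  set k3 := Nat.card (orbitRel.Quotient P Ω)
  set k5 := Nat.card (orbitRel.Quotient E Ω)
  rcases hcases with h | h | h | h | h | h | h | h | h | h | h | h | h
  all_goals try (rw [h] at hB3 hfle hfne; omega)
  · -- n = 27
    rw [h] at hB3 hfle hfne
    have hf0 : f = 0 := by omega
    have hy0 : fx Ω y = 0 := by rw [conj3 y hy]; exact hf0
    -- the fixed points of g
    have hpg : IsPGroup 13 (Subgroup.zpowers g) := by
      haveI : Fact (Nat.Prime 13) := ⟨by norm_num⟩
      apply IsPGroup.of_card (n := 1)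
      rw [Nat.card_zpowers, hg, pow_one]
    haveI : Fact (Nat.Prime 13) := ⟨by norm_num⟩
    have hmod := hpg.card_modEq_card_fixedPoints Ω
    rw [hnc, h] at hmod
    have hne : Nat.card (fixedPoints (Subgroup.zpowers g) Ω) ≠ 0 := by
      intro h0
      rw [h0] at hmod
      exact absurd hmod (by decide)
    obtain ⟨⟨α, hα⟩⟩ : Nonempty (fixedPoints (Subgroup.zpowers g) Ω) := by
      by_contra hemp
      rw [not_nonempty_iff] at hemp
      exact hne Nat.card_of_isEmpty
    have hgα : g • α = α := hα ⟨g, Subgroup.mem_zpowers g⟩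
    have huniq : ∀ β : Ω, g • β = β → β = α := by
      intro β hβ
      by_contra hne'
      let e : Fin 2 ↪ Ω := ⟨![α, β], by
        intro i j hij
        fin_cases i <;> fin_cases j
        · rfl
        · exact absurd hij.symm hne'
        · exact absurd hij hne'
        · rfl⟩
      have hge : g ∈ stabilizer G e := by
        rw [mem_stabilizer_iff]
        ext i
        fin_cases i
        · exact hgα
        · exact hβ
      have h1 := card_stab_pair h2 e
      rw [hcard, ← hn, h] at h1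
      have h3 : orderOf g ∣ Nat.card (stabilizer G e) := by
        have := orderOf_dvd_natCard (⟨g, hge⟩ : stabilizer G e)
        rwa [Subgroup.orderOf_mk] at this
      rw [hg] at h3
      obtain ⟨c, hc⟩ := h3
      rw [hc] at h1
      omega
    obtain ⟨j, m, hj, hm⟩ := hyg
    have h1 : g ^ j • (y • α) = y • α := by
      rw [← hj, ← mul_smul, inv_mul_cancel_right, mul_smul, hgα]
    have h3 : g • (y • α) = y • α := by
      have : (g ^ j) ^ m • (y • α) = y • α := by
        have hsub := fixedBy_subset_fixedBy_zpow Ω (g ^ j) (m : ℤ)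
        rw [zpow_natCast] at hsub
        exact hsub h1
      rwa [hm] at this
    have hyα : y • α = α := huniq _ h3
    have : (⟨α, hyα⟩ : fixedBy Ω y) ∈ (Set.univ : Set (fixedBy Ω y)) := trivial
    have hpos : 0 < fx Ω y := Nat.card_pos_iff.mpr ⟨⟨⟨α, hyα⟩⟩, inferInstance⟩
    omega
  · -- n = 40
    have := hE_orb (by rw [h]; decide)
    rw [h] at hB5 this
    omega
  · -- n = 65
    have := hE_orb (by rw [h]; decide)
    rw [h] at hB5 this
    omega

end Cfsg.Agent.Lib.H3.Tits2T
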