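import Mathlib
import Cfsg.Agent.Lib.H3.Tits2T.Words

set_option autoImplicit false
set_option maxRecDepth 1000000

/-!
# Explicit subgroups `3^{1+2}`, `5^2` and `13:3` of the Tits group (helper3, for S2197)

The data were found by computer in a permutation representation of `²F₄(2)` on `1755` points and are
checked here in the kernel on the codes of the `52 × 52` matrices.
-/

namespace Cfsg.Agent.Lib.H3.Tits2T

open Cfsg.Agent.Lib.H3.Tits

/-- an element of order `3` -/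
def wa : List ℕ := [0, 1]
/-- its inverse -/
def wai : List ℕ := [1, 0]
/-- a conjugate of `wa` not commuting with it and generating with it a group of order `27` -/
def wb : List ℕ := [2, 2, 2, 3, 1, 3, 3, 0, 2, 0, 1, 2, 2, 2, 0, 3, 3, 1, 3, 3, 3, 2]
/-- for the non-identity elements of that group: word in `wa`, `wb`; a conjugating element; whether it is conjugated to
`wa` (or else to `wai`) -/
def datP : List (List Bool × List ℕ × Bool) := [
  ([true], [], true),
  ([false], [0, 2, 2, 3, 3, 3, 1, 3, 3, 3, 2, 2, 2, 0, 1, 0, 2], true),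
  ([true, true], [], false),
  ([false, true], [3, 3, 3, 1, 3, 1, 3, 3, 3, 2, 0, 2, 0, 2, 2, 2, 1, 0], true),
  ([true, false], [3, 3, 3, 1, 3, 1, 3, 3, 3, 2, 0, 2, 0, 2, 2, 2, 0, 1], true),
  ([false, false], [0, 2, 2, 3, 3, 3, 1, 3, 3, 3, 2, 2, 2, 0, 1, 0, 2], false),
  ([false, true, true], [2, 2, 2, 0, 2, 0, 2, 2, 2, 3, 1, 3, 1, 3, 3, 3, 1, 0], false),
  ([true, false, true], [2, 2, 2, 0, 2, 0, 2, 2, 2, 3, 1, 3, 1, 3, 3, 3, 0, 1], false),
  ([false, false, true], [2, 2, 2, 0, 2, 0, 2, 2, 2, 3, 1, 3, 1, 3, 3, 3], true),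
  ([true, true, false], [2, 2, 2, 0, 2, 0, 2, 2, 2, 3, 1, 3, 1, 3, 3, 3], false),
  ([false, true, false], [2, 2, 2, 0, 2, 0, 2, 2, 2, 3, 1, 3, 1, 3, 3, 3, 0, 1], true),
  ([true, false, false], [2, 2, 2, 0, 2, 0, 2, 2, 2, 3, 1, 3, 1, 3, 3, 3, 1, 0], true),
  ([true, false, true, true], [2, 2, 3, 3, 3, 2, 0, 1, 2, 0, 1, 3], true),
  ([false, false, true, true], [3, 3, 3, 1, 3, 1, 3, 3, 3, 2, 0, 2, 0, 2, 2, 2, 0, 1], false),
  ([true, true, false, true], [0, 2, 2, 3, 3, 3, 2, 0, 2, 0, 1, 3], true),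
  ([false, true, false, true], [3, 3, 3, 1, 3, 1, 3, 3, 3, 2, 0, 2, 0, 2, 2, 2, 1, 0], false),
  ([true, false, false, true], [3, 3, 3, 1, 3, 1, 3, 3, 3, 2, 0, 2, 0, 2, 2, 2], false),
  ([false, false, true, false], [2, 2, 2, 0, 3, 1, 0, 2, 2, 3, 1, 0, 2, 3, 3, 3, 0, 2], true),
  ([false, true, false, false], [2, 2, 2, 0, 2, 2, 0, 1, 2, 2, 2, 3, 3, 3, 0, 1, 3, 1, 3, 3, 3, 2, 0], true),
  ([true, true, false, true, true], [3, 3, 3, 1, 3, 1, 3, 3, 3, 2, 0, 2, 0, 2, 2, 2], true),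
  ([false, true, false, true, true], [0, 2, 2, 3, 3, 3, 2, 0, 2, 0, 1, 3], false),
  ([true, false, false, true, true], [2, 2, 3, 3, 3, 2, 0, 1, 2, 0, 1, 3], false),
  ([false, false, true, false, true], [2, 2, 2, 0, 2, 2, 0, 1, 2, 2, 2, 3, 3, 3, 0, 1, 3, 1, 3, 3, 3, 2, 0], false),
  ([false, true, false, false, true], [2, 2, 2, 0, 3, 1, 0, 2, 2, 3, 1, 0, 2, 3, 3, 3, 0, 2], false),
  ([false, false, true, false, true, true], [0, 2, 2, 3, 3, 3, 1, 2, 0, 2, 2, 2, 1, 3, 2, 2], true),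
  ([false, true, false, false, true, true], [0, 2, 2, 3, 3, 3, 1, 2, 0, 2, 2, 2, 1, 3, 2, 2], false)]
/-- the words of the elements of the group of order `27` -/
def usP : List (List Bool) := [] :: datP.map fun d => d.1

/-- an element of order `5` -/
def we1 : List ℕ := [2, 2, 2, 3]
/-- a conjugate of `we1` commuting with it, not a power of it -/
def we2 : List ℕ := [1, 0, 2, 2, 2, 1, 3, 2, 2, 0, 1, 0, 2, 2, 2, 3, 0, 1, 0, 2, 2, 3, 3, 3, 1, 2, 0, 1]
/-- for the non-identity elements of the group of order `25`: word in `we1`, `we2`; a conjugating element; the power of `we1`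
it is conjugated to -/
def datE : List (List Bool × List ℕ × ℕ) := [
  ([true], [], 1),
  ([false], [0, 1, 0, 2, 2, 3, 3, 3, 2, 0, 1, 0], 1),
  ([true, true], [], 2),
  ([false, true], [0, 1, 3, 2, 2, 2, 0, 1, 3, 2, 2, 2, 0, 2, 3, 0, 2, 2, 1, 0], 1),
  ([false, false], [0, 1, 0, 2, 2, 3, 3, 3, 2, 0, 1, 0], 2),
  ([true, true, true], [], 3),
  ([false, true, true], [0, 1, 3, 1, 3, 3, 3, 1, 0, 3, 2, 2, 1, 0, 2, 2, 2, 0, 1, 0], 2),
  ([false, false, true], [0, 3, 3, 3, 1, 0, 3, 1, 3, 3, 3, 2, 3, 0, 2, 2, 2, 0, 1, 0], 1),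
  ([false, false, false], [0, 1, 0, 2, 2, 3, 3, 3, 2, 0, 1, 0], 3),
  ([true, true, true, true], [], 4),
  ([false, true, true, true], [0, 3, 3, 3, 1, 0, 3, 1, 3, 3, 3, 2, 3, 0, 2, 2, 2, 0, 1, 0], 3),
  ([false, false, true, true], [0, 1, 3, 2, 2, 2, 0, 1, 3, 2, 2, 2, 0, 2, 3, 0, 2, 2, 1, 0], 2),
  ([false, false, false, true], [0, 1, 3, 1, 3, 3, 3, 1, 0, 3, 2, 2, 1, 0, 2, 2, 2, 0, 1, 0], 1),
  ([false, false, false, false], [0, 1, 0, 2, 2, 3, 3, 3, 2, 0, 1, 0], 4),
  ([false, true, true, true, true], [0, 1, 0, 3, 1, 3, 3, 3, 2, 0, 3, 2, 2, 2, 0, 1, 3, 3, 3, 0], 4),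
  ([false, false, true, true, true], [0, 1, 0, 3, 1, 3, 3, 3, 2, 0, 3, 2, 2, 2, 0, 1, 3, 3, 3, 0], 3),
  ([false, false, false, true, true], [0, 1, 0, 3, 1, 3, 3, 3, 2, 0, 3, 2, 2, 2, 0, 1, 3, 3, 3, 0], 2),
  ([false, false, false, false, true], [0, 1, 0, 3, 1, 3, 3, 3, 2, 0, 3, 2, 2, 2, 0, 1, 3, 3, 3, 0], 1),
  ([false, false, true, true, true, true], [0, 1, 3, 1, 3, 3, 3, 1, 0, 3, 2, 2, 1, 0, 2, 2, 2, 0, 1, 0], 4),
  ([false, false, false, true, true, true], [0, 1, 3, 2, 2, 2, 0, 1, 3, 2, 2, 2, 0, 2, 3, 0, 2, 2, 1, 0], 3),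
  ([false, false, false, false, true, true], [0, 3, 3, 3, 1, 0, 3, 1, 3, 3, 3, 2, 3, 0, 2, 2, 2, 0, 1, 0], 2),
  ([false, false, false, true, true, true, true], [0, 3, 3, 3, 1, 0, 3, 1, 3, 3, 3, 2, 3, 0, 2, 2, 2, 0, 1, 0], 4),
  ([false, false, false, false, true, true, true], [0, 1, 3, 1, 3, 3, 3, 1, 0, 3, 2, 2, 1, 0, 2, 2, 2, 0, 1, 0], 3),
  ([false, false, false, false, true, true, true, true], [0, 1, 3, 2, 2, 2, 0, 1, 3, 2, 2, 2, 0, 2, 3, 0, 2, 2, 1, 0], 4)]
/-- the words of the elements of the group of order `25` -/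
def usE : List (List Bool) := [] :: datE.map fun d => d.1

/-- an element of order `13` -/
def wg : List ℕ := [0, 1, 2, 2, 3, 3]
/-- an element of order `3` normalising it -/
def wy : List ℕ := [2, 2, 2, 3, 1, 3, 3, 3, 1, 3, 3, 3, 1, 0, 2, 0, 2, 2, 2, 3, 0, 2, 1]
/-- an element conjugating `wy` to `wa` -/
def ws : List ℕ := [3, 1, 3, 3, 3, 1, 3, 3, 3, 1, 2, 2, 2, 3, 1, 0, 2, 1]

/-- the conjugations in the group of order `27` -/
def conjChk3 (dat : List (List Bool × List ℕ × Bool)) : Bool :=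
  dat.all fun d => !par d.2.1 &&
    decide (wordC (d.2.1 ++ expand wa wb d.1) = wordC ((if d.2.2 then wa else wai) ++ d.2.1))

/-- the conjugations in the group of order `25` -/
def conjChk5 (dat : List (List Bool × List ℕ × ℕ)) : Bool :=
  dat.all fun d => !par d.2.1 && decide (1 ≤ d.2.2) && decide (d.2.2 ≤ 4) &&
    decide (wordC (d.2.1 ++ expand we1 we2 d.1) = wordC (wpow we1 d.2.2 ++ d.2.1))

theorem par_wa : par wa = false := by decide
theorem par_wai : par wai = false := by decide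
theorem par_wb : par wb = false := by decide
theorem par_we1 : par we1 = false := by decide
theorem par_we2 : par we2 = false := by decide
theorem par_wg : par wg = false := by decide
theorem par_wy : par wy = false := by decide
theorem par_ws : par ws = false := by decide

theorem wa_inv : wordC (wa ++ wai) = oneC := by decide +kernel
theorem wa_ne : wordC wa ≠ oneC := by decide +kernel
theorem grpChkP : grpChk wa wb usP = true := by decide +kernel
theorem conjChkP : conjChk3 datP = true := by decide +kernel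
theorem we1_pow : wordC (wpow we1 5) = oneC := by decide +kernel
theorem grpChkE : grpChk we1 we2 usE = true := by decide +kernel
theorem conjChkE : conjChk5 datE = true := by decide +kernel
theorem wg_pow : wordC (wpow wg 13) = oneC := by decide +kernel
theorem wg_ne : wordC wg ≠ oneC := by decide +kernel
theorem wy_wg : wordC (wy ++ wg) = wordC (wpow wg 3 ++ wy) := by decide +kernel
theorem ws_wy : wordC (ws ++ wy) = wordC (wa ++ ws) := by decide +kernel

end Cfsg.Agent.Lib.H3.Tits2T
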