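import Mathlib
import Cfsg.Agent.Lib.H3.Tits2T.Abs2
import Cfsg.Agent.Lib.H3.Tits2T.Data

set_option autoImplicit false

/-!
# The Tits group has no faithful `2`-transitive action on at least three points (helper3, for S2197)
-/

namespace Cfsg.Agent.Lib.H3.Tits2T

open Cfsg.Agent.Lib.H3.Tits MulAction

theorem conjChk3_spec {dat : List (List Bool × List ℕ × Bool)} (h : conjChk3 dat = true)
    (d : List Bool × List ℕ × Bool) (hd : d ∈ dat) :
    ∃ t : ↥T, t * tw (expand wa wb d.1) * t⁻¹ = tw wa ∨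
      t * tw (expand wa wb d.1) * t⁻¹ = (tw wa)⁻¹ := by
  simp only [conjChk3, List.all_eq_true, Bool.and_eq_true, Bool.not_eq_true', decide_eq_true_eq]
    at h
  obtain ⟨hc, he⟩ := h d hd
  refine ⟨tw d.2.1, ?_⟩
  have hx := par_expand par_wa par_wb d.1
  rcases hb : d.2.2 with _ | _
  · right
    rw [hb] at he
    rw [tw_inv_of_code par_wa par_wai wa_inv]
    exact tw_conj_of_code hc hx par_wai he
  · left
    rw [hb] at he
    exact tw_conj_of_code hc hx par_wa he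

theorem pow_pow_inv5 {G : Type*} [Group G] (x : G) (h5 : x ^ 5 = 1) (k : ℕ) (h1 : 1 ≤ k) (h4 : k ≤ 4) :
    ∃ m : ℕ, (x ^ k) ^ m = x := by
  have h6 : x ^ 6 = x := by rw [pow_succ, h5, one_mul]
  interval_cases k
  · exact ⟨1, by rw [pow_one, pow_one]⟩
  · exact ⟨3, by rw [← pow_mul]; exact h6⟩
  · exact ⟨2, by rw [← pow_mul]; exact h6⟩
  · refine ⟨4, ?_⟩
    rw [← pow_mul, show 4 * 4 = 5 * 3 + 1 from rfl, pow_succ, pow_mul, h5, one_pow, one_mul]

theorem we1_pow5 : tw we1 ^ 5 = 1 := by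
  rw [← tw_wpow par_we1]
  exact tw_eq_one_of_code (par_wpow par_we1 5) we1_pow

theorem conjChk5_spec {dat : List (List Bool × List ℕ × ℕ)} (h : conjChk5 dat = true)
    (d : List Bool × List ℕ × ℕ) (hd : d ∈ dat) :
    ∃ (t : ↥T) (k m : ℕ), t * tw (expand we1 we2 d.1) * t⁻¹ = tw we1 ^ k ∧
      (tw we1 ^ k) ^ m = tw we1 := by
  simp only [conjChk5, List.all_eq_true, Bool.and_eq_true, Bool.not_eq_true', decide_eq_true_eq]
    at h
  obtain ⟨⟨⟨hc, h1⟩, h4⟩, he⟩ := h d hd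
  obtain ⟨m, hm⟩ := pow_pow_inv5 (tw we1) we1_pow5 d.2.2 h1 h4
  refine ⟨tw d.2.1, d.2.2, m, ?_, hm⟩
  have hx := par_expand par_we1 par_we2 d.1
  rw [← tw_wpow par_we1]
  exact tw_conj_of_code hc hx (par_wpow par_we1 _) he

theorem mem_us_cases {α : Type} (dat : List (List Bool × α)) (u : List Bool)
    (hu : u ∈ ([] :: dat.map fun d => d.1)) : u = [] ∨ ∃ d ∈ dat, d.1 = u := by
  rcases List.mem_cons.mp hu with h | h
  · exact Or.inl h
  · obtain ⟨d, hd, rfl⟩ := List.mem_map.mp h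
    exact Or.inr ⟨d, hd, rfl⟩

theorem wg_order : orderOf (tw wg) = 13 := by
  have : Fact (Nat.Prime 13) := ⟨by norm_num⟩
  apply orderOf_eq_prime
  · rw [← tw_wpow par_wg]
    exact tw_eq_one_of_code (par_wpow par_wg 13) wg_pow
  · exact tw_ne_one_of_code par_wg wg_ne

theorem tits_no_two_trans {Ω : Type*} [Fintype Ω] [MulAction ↥T Ω] [FaithfulSMul ↥T Ω]
    (hΩ : 3 ≤ Fintype.card Ω) : ¬ IsMultiplyPretransitive ↥T Ω 2 := by
  obtain ⟨hPc, hPl⟩ := listed_group (us := usP) par_wa par_wb (List.mem_cons_self ..) grpChkP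
  obtain ⟨hEc, hEl⟩ := listed_group (us := usE) par_we1 par_we2 (List.mem_cons_self ..) grpChkE
  have hg13 : tw wg ^ 13 = 1 := by
    rw [← tw_wpow par_wg]
    exact tw_eq_one_of_code (par_wpow par_wg 13) wg_pow
  refine no_two_trans (G := ↥T) card_T
    (Subgroup.closure {tw wa, tw wb}) (by rw [hPc]; rfl) (tw wa) (tw_ne_one_of_code par_wa wa_ne) ?_
    (Subgroup.closure {tw we1, tw we2}) (by rw [hEc]; rfl) (tw we1) ?_
    (tw wg) (tw wy) wg_order ⟨tw ws, Or.inl (tw_conj_of_code par_ws par_wy par_wa ws_wy)⟩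
    ⟨3, 9, ?_, ?_⟩ hΩ
  · intro x hx hx1
    obtain ⟨u, hu, rfl⟩ := hPl x hx
    rcases mem_us_cases datP u hu with rfl | ⟨d, hd, rfl⟩
    · exact absurd tw_nil hx1
    · exact conjChk3_spec conjChkP d hd
  · intro x hx hx1
    obtain ⟨u, hu, rfl⟩ := hEl x hx
    rcases mem_us_cases datE u hu with rfl | ⟨d, hd, rfl⟩
    · exact absurd tw_nil hx1
    · exact conjChk5_spec conjChkE d hd
  · rw [← tw_wpow par_wg]
    exact tw_conj_of_code par_wy par_wg (par_wpow par_wg 3) wy_wg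
  · rw [← pow_mul, show 3 * 9 = 13 * 2 + 1 from rfl, pow_succ, pow_mul, hg13, one_pow, one_mul]

end Cfsg.Agent.Lib.H3.Tits2T
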